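import Mathlib

/-!
The heart of a t-structure is abelian; degree zero cohomology is homological
(BBD 1.3.6), for any category `H` identified with the heart.
-/

namespace Groth.Agent.HeartAb

open CategoryTheory Category Limits Pretriangulated Triangulated ZeroObject

set_option backward.defeqAttrib.useBackward true
set_option backward.isDefEq.respectTransparency false

universe v u v' u'

variable {C : Type u} [Category.{v} C] [Preadditive C] [HasZeroObject C] [HasShift C ℤ]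
  [∀ n : ℤ, (shiftFunctor C n).Additive] [Pretriangulated C]
  (t : TStructure C) {H : Type u'} [Category.{v'} H]

section

variable [Preadditive H] [t.Heart H]

lemma hom_eq_zero ⦃X Y : H⦄ ⦃n : ℤ⦄ (f : t.ιHeart.obj X ⟶ (t.ιHeart.obj Y)⟦n⟧) (hn : n < 0) :
    f = 0 := by
  have := t.isGE_shift (t.ιHeart.obj Y) 0 n (-n)
  exact t.zero f 0 (-n) (by omega)

lemma exists_obj (W : C) (h1 : t.IsLE W 0) (h2 : t.IsGE W 0) :
    ∃ X : H, Nonempty (t.ιHeart.obj X ≅ W) := by
  have : (t.ιHeart (H := H)).essImage W := by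
    rw [TStructure.essImage_ιHeart]; exact ⟨h1.le, h2.ge⟩
  exact this

lemma admissible_eq_top :
    AbelianSubcategory.admissibleMorphism (t.ιHeart (H := H)) = ⊤ := by
  ext X₁ X₂ f₁
  simp only [MorphismProperty.top_apply, iff_true]
  intro X₃ f₂ f₃ hT
  have hle : t.IsLE X₃ 0 := by
    refine t.isLE₂ _ (rot_of_distTriang _ hT) 0 (by try dsimp; infer_instance) ?_
    try dsimp
    have := t.isLE_shift (t.ιHeart.obj X₁) 0 1 (-1)
    exact t.isLE_of_le _ (-1) 0
  have hge : t.IsGE X₃ (-1) := by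
    refine t.isGE₂ _ (rot_of_distTriang _ hT) (-1) ?_ ?_
    · try dsimp
      exact t.isGE_of_ge _ (-1) 0
    · try dsimp
      exact t.isGE_shift (t.ιHeart.obj X₁) 0 1 (-1)
  have hd := t.triangleLTGE_distinguished 0 X₃
  have hA : t.IsLE ((t.truncLT 0).obj X₃) (-1) := t.isLE_truncLT_obj X₃ 0 (-1)
  have hA' : t.IsGE ((t.truncLT 0).obj X₃) (-1) := by
    refine t.isGE₂ _ (inv_rot_of_distTriang _ hd) (-1) ?_ ?_
    · try dsimp
      have := t.isGE_shift ((t.truncGE 0).obj X₃) 0 (-1) 1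
      exact t.isGE_of_ge _ (-1) 1
    · exact hge
  have hB : t.IsLE ((t.truncGE 0).obj X₃) 0 := by
    refine t.isLE₂ _ (rot_of_distTriang _ hd) 0 hle ?_
    try dsimp
    have := t.isLE_shift ((t.truncLT 0).obj X₃) (-1) 1 (-2)
    exact t.isLE_of_le _ (-2) 0
  obtain ⟨K, ⟨eK⟩⟩ := exists_obj (H := H) t (((t.truncLT 0).obj X₃)⟦(-1 : ℤ)⟧)
    (t.isLE_shift _ (-1) (-1) 0) (t.isGE_shift _ (-1) (-1) 0)
  obtain ⟨Q, ⟨eQ⟩⟩ := exists_obj (H := H) t ((t.truncGE 0).obj X₃) hB inferInstance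
  let eK' : (t.ιHeart.obj K)⟦(1 : ℤ)⟧ ≅ (t.truncLT 0).obj X₃ :=
    (shiftFunctor C (1 : ℤ)).mapIso eK ≪≫ (shiftEquiv C (1 : ℤ)).counitIso.app _
  refine ⟨K, Q, eK'.hom ≫ (t.truncLTι 0).app X₃, (t.truncGEπ 0).app X₃ ≫ eQ.inv,
    eQ.hom ≫ (t.truncGEδLT 0).app X₃ ≫ eK'.inv⟦(1 : ℤ)⟧', ?_⟩
  refine isomorphic_distinguished _ hd _ ?_
  refine Triangle.isoMk _ _ eK' (Iso.refl _) eQ ?_ ?_ ?_
  · simp [TStructure.triangleLTGE]
  · simp [TStructure.triangleLTGE]
  · simp [TStructure.triangleLTGE, ← Functor.map_comp]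

lemma exists_isZero (t : TStructure C) [t.Heart H] : ∃ Z : H, IsZero Z := by
  obtain ⟨Z, ⟨e⟩⟩ := exists_obj (H := H) t (0 : C) (t.isLE_of_isZero (isZero_zero C) 0)
    (t.isGE_of_isZero (isZero_zero C) 0)
  refine ⟨Z, (IsZero.iff_id_eq_zero Z).2 (t.ιHeart.map_injective ?_)⟩
  exact ((isZero_zero C).of_iso e).eq_of_src _ _

lemma hasBinaryBiproduct (t : TStructure C) [t.Heart H] (X Y : H) : HasBinaryBiproduct X Y := by
  let W := t.ιHeart.obj X ⊞ t.ιHeart.obj Y
  have hd := binaryBiproductTriangle_distinguished (t.ιHeart.obj X) (t.ιHeart.obj Y)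
  obtain ⟨Z, ⟨e⟩⟩ := exists_obj (H := H) t W
    (t.isLE₂ _ hd 0 (by dsimp [binaryBiproductTriangle]; infer_instance)
      (by dsimp [binaryBiproductTriangle]; infer_instance))
    (t.isGE₂ _ hd 0 (by dsimp [binaryBiproductTriangle]; infer_instance)
      (by dsimp [binaryBiproductTriangle]; infer_instance))
  let b : BinaryBicone X Y :=
    { pt := Z
      fst := t.ιHeart.preimage (e.hom ≫ biprod.fst)
      snd := t.ιHeart.preimage (e.hom ≫ biprod.snd)
      inl := t.ιHeart.preimage (biprod.inl ≫ e.inv)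
      inr := t.ιHeart.preimage (biprod.inr ≫ e.inv)
      inl_fst := t.ιHeart.map_injective (by simp)
      inl_snd := t.ιHeart.map_injective (by simp)
      inr_fst := t.ιHeart.map_injective (by simp)
      inr_snd := t.ιHeart.map_injective (by simp) }
  refine HasBinaryBiproduct.mk ⟨b, isBinaryBilimitOfTotal b (t.ιHeart.map_injective ?_)⟩
  simp only [b, Functor.map_add, Functor.map_comp, Functor.map_preimage, Functor.map_id]
  rw [← cancel_mono e.hom, ← cancel_epi e.inv]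
  simp [W, biprod.total]

lemma hasFiniteProducts_heart (t : TStructure C) [t.Heart H] : HasFiniteProducts H := by
  have : HasBinaryBiproducts H := ⟨fun X Y ↦ hasBinaryBiproduct t X Y⟩
  obtain ⟨Z, hZ⟩ := exists_isZero (H := H) t
  have : HasZeroObject H := ⟨⟨Z, hZ⟩⟩
  have : HasBinaryProducts H := inferInstance
  have : HasTerminal H := HasZeroObject.hasTerminal
  exact hasFiniteProducts_of_has_binary_and_terminal

end

theorem exists_abelian [IsTriangulated C] (t : TStructure C) [inst : Preadditive H] [t.Heart H] :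
    ∃ a : Abelian H, @Abelian.toPreadditive H _ a = inst := by
  have := hasFiniteProducts_heart (H := H) t
  exact ⟨AbelianSubcategory.abelian _ (hom_eq_zero t) (admissible_eq_top t), rfl⟩

variable [IsTriangulated C] [Abelian H] [t.Heart H]

lemma shortExact_iff {X Y Z : H} (u : X ⟶ Y) (v : Y ⟶ Z) :
    (∃ huv : u ≫ v = 0, (ShortComplex.mk u v huv).ShortExact) ↔
      ∃ (w : t.ιHeart.obj Z ⟶ (t.ιHeart.obj X)⟦(1 : ℤ)⟧),
        Triangle.mk (t.ιHeart.map u) (t.ιHeart.map v) w ∈ distTriang C := by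
  constructor
  · rintro ⟨huv, hse⟩
    have : Epi v := hse.epi_g
    obtain ⟨X₁, i, δ, hT⟩ := AbelianSubcategory.exists_distinguished_triangle_of_epi
      (hom_eq_zero t) (admissible_eq_top t) v
    have h1 := AbelianSubcategory.isLimitKernelForkOfDistTriang (hom_eq_zero t) i v δ hT
    let φ : X ≅ X₁ := hse.fIsKernel.conePointUniqueUpToIso h1
    have hφ : φ.hom ≫ i = u :=
      hse.fIsKernel.conePointUniqueUpToIso_hom_comp h1 WalkingParallelPair.zero
    refine ⟨δ ≫ (t.ιHeart.map φ.inv)⟦(1 : ℤ)⟧', isomorphic_distinguished _ hT _ ?_⟩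
    refine Triangle.isoMk _ _ (t.ιHeart.mapIso φ) (Iso.refl _) (Iso.refl _) ?_ ?_ ?_
    · simp [← hφ]
    · simp
    · simp [← Functor.map_comp]
  · rintro ⟨w, hT⟩
    have h1 := AbelianSubcategory.isLimitKernelForkOfDistTriang (hom_eq_zero t) u v w hT
    have h2 := AbelianSubcategory.isColimitCokernelCoforkOfDistTriang (hom_eq_zero t) u v w hT
    have huv : u ≫ v = 0 := t.ιHeart.map_injective (by
      simpa using comp_distTriang_mor_zero₁₂ _ hT)
    refine ⟨huv, ?_⟩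
    have : Mono u := mono_of_isLimit_fork h1
    have : Epi v := epi_of_isColimit_cofork h2
    exact ⟨(ShortComplex.mk u v huv).exact_of_f_is_kernel h1⟩

variable (H0 : C ⥤ H) (e : H0 ⋙ t.ιHeart ≅ t.truncGE 0 ⋙ t.truncLE 0)

/-- the other description of the degree zero cohomology functor -/
noncomputable def altIso : H0 ⋙ t.ιHeart ≅ t.truncLE 0 ⋙ t.truncGE 0 :=
  e ≪≫ (t.truncGELEIsoLEGE 0 0).symm

include e in
lemma preservesZeroMorphisms : H0.PreservesZeroMorphisms :=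
  ⟨fun X Y ↦ t.ιHeart.map_injective (by
    have := e.hom.naturality (0 : X ⟶ Y)
    simp only [Functor.comp_map, Functor.map_zero, zero_comp, comp_zero] at this ⊢
    rw [← cancel_mono (e.hom.app Y), this, zero_comp])⟩

include e in
/-- If `X ≤ 0` then any morphism killing the image of `H0 X` factors through `H0 Y ⟶ H0 Z`. -/
lemma exists_factor {T : Triangle C} (hT : T ∈ distTriang C) [t.IsLE T.obj₁ 0] {A : H}
    (a : H0.obj T.obj₂ ⟶ A) (ha : H0.map T.mor₁ ≫ a = 0) :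
    ∃ b : H0.obj T.obj₃ ⟶ A, H0.map T.mor₂ ≫ b = a := by
  let e' := altIso t H0 e
  let a'' : (t.truncGE 0).obj ((t.truncLE 0).obj T.obj₂) ⟶ t.ιHeart.obj A :=
    e'.inv.app T.obj₂ ≫ t.ιHeart.map a
  let a' := (t.truncGEπ 0).app ((t.truncLE 0).obj T.obj₂) ≫ a''
  have hz : (t.truncLE 0).map T.mor₁ ≫ a' = 0 := by
    have h1 : (t.truncGE 0).map ((t.truncLE 0).map T.mor₁) ≫ e'.inv.app T.obj₂ =
        e'.inv.app T.obj₁ ≫ t.ιHeart.map (H0.map T.mor₁) := e'.inv.naturality T.mor₁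
    simp only [a', a'', ← assoc, ← t.truncGEπ_naturality]
    simp only [assoc]
    rw [reassoc_of% h1, ← Functor.map_comp, ha, Functor.map_zero, comp_zero, comp_zero]
  let u' : T.obj₁ ⟶ (t.truncLE 0).obj T.obj₂ := t.liftTruncLE T.mor₁ 0
  have hu' : u' ≫ a' = 0 := by
    have : (t.truncLE 0).map T.mor₁ = (t.truncLEι 0).app T.obj₁ ≫ u' :=
      t.to_truncLE_obj_ext (by simp [u'])
    rw [this, assoc] at hz
    have : IsIso ((t.truncLEι 0).app T.obj₁) :=
      (t.isLE_iff_isIso_truncLEι_app 0 T.obj₁).1 inferInstance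
    exact (cancel_epi ((t.truncLEι 0).app T.obj₁)).1 (by rw [hz, comp_zero])
  obtain ⟨W, g, w, hW⟩ := distinguished_cocone_triangle u'
  have hWle : t.IsLE W 0 := by
    refine t.isLE₂ _ (rot_of_distTriang _ hW) 0 (by try dsimp; infer_instance) ?_
    try dsimp
    have := t.isLE_shift T.obj₁ 0 1 (-1)
    exact t.isLE_of_le _ (-1) 0
  obtain ⟨d, hd⟩ := Triangle.yoneda_exact₂ _ hW a' hu'
  let O := someOctahedron (t.liftTruncLE_ι T.mor₁ 0) hW
    (t.triangleLEGT_distinguished 0 T.obj₂) hT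
  have : IsIso ((t.truncLE 0).map O.m₁) :=
    t.isIso₁_truncLE_map_of_isGE _ O.mem 0 1 rfl (t.isGE_truncGT_obj T.obj₂ 0 1)
  have : IsIso ((t.truncLEι 0).app W) :=
    (t.isLE_iff_isIso_truncLEι_app 0 W).1 inferInstance
  let c := inv ((t.truncLE 0).map O.m₁) ≫ (t.truncLEι 0).app W ≫ d
  have hv : (t.truncLE 0).map T.mor₂ =
      (g ≫ inv ((t.truncLEι 0).app W)) ≫ (t.truncLE 0).map O.m₁ := by
    apply t.to_truncLE_obj_ext
    simp only [NatTrans.naturality, assoc, IsIso.inv_hom_id_assoc, Functor.id_map]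
    exact O.comm₁.symm
  have hc : (t.truncLE 0).map T.mor₂ ≫ c = a' := by
    dsimp at hd
    simp [hv, c, hd]
  refine ⟨t.ιHeart.preimage (e'.hom.app T.obj₃ ≫ t.descTruncGE c 0), t.ιHeart.map_injective ?_⟩
  have h2 : t.ιHeart.map (H0.map T.mor₂) ≫ e'.hom.app T.obj₃ =
      e'.hom.app T.obj₂ ≫ (t.truncGE 0).map ((t.truncLE 0).map T.mor₂) :=
    e'.hom.naturality T.mor₂
  rw [Functor.map_comp, Functor.map_preimage, reassoc_of% h2]
  have h3 : (t.truncGE 0).map ((t.truncLE 0).map T.mor₂) ≫ t.descTruncGE c 0 = a'' := by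
    apply t.from_truncGE_obj_ext
    erw [t.truncGEπ_naturality_assoc, t.π_descTruncGE, hc]
  rw [h3]
  exact e'.hom_inv_id_app_assoc _ _

include e in
/-- If `A ⟶ U ⟶ Z` is distinguished with `A ≥ 1` then `H0 U ⟶ H0 Z` is mono. -/
lemma mono_map {T : Triangle C} (hT : T ∈ distTriang C) [t.IsGE T.obj₁ 1] :
    Mono (H0.map T.mor₂) := by
  rw [Preadditive.mono_iff_cancel_zero]
  intro B b hb
  let b'' : t.ιHeart.obj B ⟶ (t.truncGE 0).obj T.obj₂ :=
    t.ιHeart.map b ≫ e.hom.app T.obj₂ ≫ (t.truncLEι 0).app _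
  suffices hb'' : b'' = 0 by
    apply t.ιHeart.map_injective
    rw [Functor.map_zero, ← cancel_mono (e.hom.app T.obj₂), zero_comp]
    exact t.to_truncLE_obj_ext (by simpa [b''] using hb'')
  have hg : b'' ≫ (t.truncGE 0).map T.mor₂ = 0 := by
    have h1 : t.ιHeart.map (H0.map T.mor₂) ≫ e.hom.app T.obj₃ =
        e.hom.app T.obj₂ ≫ (t.truncLE 0).map ((t.truncGE 0).map T.mor₂) :=
      e.hom.naturality T.mor₂
    have h2 : (t.truncLE 0).map ((t.truncGE 0).map T.mor₂) ≫ (t.truncLEι 0).app _ =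
        (t.truncLEι 0).app _ ≫ (t.truncGE 0).map T.mor₂ :=
      (t.truncLEι 0).naturality _
    simp only [b'', assoc]
    erw [← h2, ← reassoc_of% h1]
    rw [← assoc, ← Functor.map_comp, hb, Functor.map_zero, zero_comp]
  have : IsIso ((t.truncLT 0).map T.mor₂) :=
    t.isIso₁_truncLT_map_of_isGE _ (rot_of_distTriang _ hT) 0
      (t.isGE_shift T.obj₁ 1 1 0)
  have hδ : b'' ≫ (t.truncGEδLT 0).app T.obj₂ = 0 := by
    rw [← cancel_mono (((t.truncLT 0).map T.mor₂)⟦(1 : ℤ)⟧'), zero_comp, assoc]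
    have := (t.truncGEδLT 0).naturality T.mor₂
    dsimp at this
    rw [← this, reassoc_of% hg, zero_comp]
  obtain ⟨b', hb'⟩ := Triangle.coyoneda_exact₃ _ (t.triangleLTGE_distinguished 0 T.obj₂) b'' hδ
  dsimp at b' hb'
  have hb'g : (b' ≫ T.mor₂) ≫ (t.truncGEπ 0).app T.obj₃ = 0 := by
    rw [assoc, ← t.truncGEπ_naturality, ← assoc, ← hb', hg]
  obtain ⟨c, hc⟩ := Triangle.coyoneda_exact₂ _ (t.triangleLTGE_distinguished 0 T.obj₃)
    (b' ≫ T.mor₂) hb'g
  dsimp at c hc
  let c' := c ≫ inv ((t.truncLT 0).map T.mor₂)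
  let q : t.ιHeart.obj B ⟶ T.obj₂ := c' ≫ (t.truncLTι 0).app T.obj₂
  have hz : (b' - q) ≫ T.mor₂ = 0 := by
    have := (t.truncLTι 0).naturality T.mor₂
    dsimp at this
    rw [Preadditive.sub_comp, sub_eq_zero, hc]
    simp only [q, c', assoc, ← this, IsIso.inv_hom_id_assoc]
  obtain ⟨d, hd⟩ := Triangle.coyoneda_exact₂ _ hT _ hz
  rw [t.zero d 0 1, zero_comp, sub_eq_zero] at hd
  rw [hb', hd]
  simp only [q, assoc, t.truncLTι_comp_truncGEπ_app, comp_zero]

include e in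
lemma exact_of_distTriang [H0.PreservesZeroMorphisms] (T : Triangle C) (hT : T ∈ distTriang C) :
    ((shortComplexOfDistTriangle T hT).map H0).Exact := by
  let ιX := (t.truncLEι 0).app T.obj₁
  obtain ⟨U, f, w, hU⟩ := distinguished_cocone_triangle (ιX ≫ T.mor₁)
  let O := someOctahedron rfl (t.triangleLEGT_distinguished 0 T.obj₁) hT hU
  have hO : H0.map f ≫ H0.map O.m₃ = H0.map T.mor₂ := by
    rw [← Functor.map_comp, O.comm₃]
  have : Mono (H0.map O.m₃) := by
    have : t.IsGE ((t.truncGT 0).obj T.obj₁) 1 := t.isGE_truncGT_obj T.obj₁ 0 1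
    exact @mono_map _ _ _ _ _ _ _ t H _ _ _ _ H0 e
      (Triangle.mk O.m₁ O.m₃ _) O.mem this
  rw [ShortComplex.exact_iff_kernel_ι_comp_cokernel_π_zero]
  let π := cokernel.π (H0.map T.mor₁)
  obtain ⟨b, hb⟩ : ∃ b : H0.obj U ⟶ cokernel (H0.map T.mor₁), H0.map f ≫ b = π := by
    have : t.IsLE ((t.truncLE 0).obj T.obj₁) 0 := inferInstance
    refine @exists_factor _ _ _ _ _ _ _ t H _ _ _ _ H0 e
      (Triangle.mk (ιX ≫ T.mor₁) f w) hU this _ π ?_
    try dsimp
    rw [Functor.map_comp, assoc, cokernel.condition, comp_zero]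
  have hk : kernel.ι (H0.map T.mor₂) ≫ H0.map f = 0 := by
    rw [← cancel_mono (H0.map O.m₃), assoc, hO, kernel.condition, zero_comp]
  try dsimp
  show kernel.ι (H0.map T.mor₂) ≫ π = 0
  rw [← hb, reassoc_of% hk, zero_comp]

include e in
lemma isHomological : H0.IsHomological :=
  have := preservesZeroMorphisms t H0 e
  { exact := fun T hT ↦ exact_of_distTriang t H0 e T hT }

end Groth.Agent.HeartAb
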