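import Mathlib
import Groth.Agent.PervT.Heart

/-!
The induced t-structure on a Verdier quotient by a subcategory whose intersection with the heart
is stable under quotients.
-/

namespace Groth.Agent.TQuot

open CategoryTheory Category Limits Pretriangulated Triangulated ZeroObject

set_option backward.defeqAttrib.useBackward true
set_option backward.isDefEq.respectTransparency false

universe v u v' u'

variable {C : Type u} [Category.{v} C] [Preadditive C] [HasZeroObject C] [HasShift C ℤ]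
  [∀ n : ℤ, (shiftFunctor C n).Additive] [Pretriangulated C] [IsTriangulated C]
  (t : TStructure C) (D : ObjectProperty C) [D.IsTriangulated] [D.IsClosedUnderIsomorphisms]

lemma quotient_mem_of_le_zero
    (h1 : ∀ X : C, D X → ∀ n : ℤ, D ((t.truncGELE n n).obj X))
    (h2 : ∀ (X Y Z : C) (f : X ⟶ Y) (g : Y ⟶ Z) (h : Z ⟶ X⟦(1 : ℤ)⟧),
      Triangle.mk f g h ∈ distTriang C → t.heart X → t.heart Y → t.heart Z → D Y → D X ∧ D Z)
    {K X' X : C} (a : K ⟶ X') (b : X' ⟶ X) (c : X ⟶ K⟦(1 : ℤ)⟧)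
    (hT : Triangle.mk a b c ∈ distTriang C) (hK : D K) (hX : t.IsLE X (-1)) (hX' : t.IsLE X' 0) :
    D ((t.truncGE 0).obj X') := by
  let H := t.heart.FullSubcategory
  letI : t.Heart H := t.hasHeartFullSubcategory
  have := HeartAb.hasFiniteProducts_heart (H := H) t
  letI : Abelian H := AbelianSubcategory.abelian _ (HeartAb.hom_eq_zero t) (HeartAb.admissible_eq_top t)
  have hF : ∀ Y : C, t.heart ((t.truncGE 0 ⋙ t.truncLE 0).obj Y) := fun Y =>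
    ⟨(inferInstance : t.IsLE ((t.truncLE 0).obj ((t.truncGE 0).obj Y)) 0).le,
      (inferInstance : t.IsGE ((t.truncLE 0).obj ((t.truncGE 0).obj Y)) 0).ge⟩
  let H0 : C ⥤ H := t.heart.lift (t.truncGE 0 ⋙ t.truncLE 0) hF
  let e : H0 ⋙ t.ιHeart ≅ t.truncGE 0 ⋙ t.truncLE 0 := Iso.refl _
  have : H0.IsHomological := HeartAb.isHomological t H0 e
  have hzero : IsZero (H0.obj X) := by
    rw [IsZero.iff_id_eq_zero]
    apply t.ιHeart.map_injective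
    have hz : IsZero (t.ιHeart.obj (H0.obj X)) :=
      (t.truncLE 0).map_isZero (t.isZero_truncGE_obj_of_isLE (-1) 0 (by lia) X)
    exact hz.eq_of_src _ _
  have hex := H0.map_distinguished_exact _ hT
  have : Epi (H0.map a) := ((ShortComplex.exact_iff_epi _ (hzero.eq_of_tgt _ _)).1 hex)
  have hse : (ShortComplex.mk (kernel.ι (H0.map a)) (H0.map a) (kernel.condition _)).ShortExact :=
    { exact := ShortComplex.exact_of_f_is_kernel _ (kernelIsKernel _) }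
  obtain ⟨w, hw⟩ := (HeartAb.shortExact_iff t _ _).1 ⟨_, hse⟩
  have hD0 : D (t.ιHeart.obj (H0.obj K)) :=
    D.prop_of_iso ((t.truncGELEIsoLEGE 0 0).app K) (h1 K hK 0)
  have hD1 := (h2 _ _ _ _ _ _ hw (t.ιHeart_obj_mem _) (t.ιHeart_obj_mem _) (t.ιHeart_obj_mem _) hD0).2
  have : t.IsLE ((t.truncGE 0).obj X') 0 := inferInstance
  have : IsIso ((t.truncLEι 0).app ((t.truncGE 0).obj X')) :=
    (t.isLE_iff_isIso_truncLEι_app 0 _).1 this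
  exact D.prop_of_iso (asIso ((t.truncLEι 0).app ((t.truncGE 0).obj X'))) hD1

lemma exists_le_zero
    (h1 : ∀ X : C, D X → ∀ n : ℤ, D ((t.truncGELE n n).obj X))
    (h2 : ∀ (X Y Z : C) (f : X ⟶ Y) (g : Y ⟶ Z) (h : Z ⟶ X⟦(1 : ℤ)⟧),
      Triangle.mk f g h ∈ distTriang C → t.heart X → t.heart Y → t.heart Z → D Y → D X ∧ D Z)
    {X : C} [t.IsLE X 0] (N : ℕ) : ∀ (X' : C) (s : X' ⟶ X), D.trW s → t.IsLE X' N →
      ∃ (X₀ : C) (j : X₀ ⟶ X'), D.trW j ∧ t.IsLE X₀ 0 := by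
  induction N with
  | zero => exact fun X' _ _ h => ⟨X', 𝟙 X', MorphismProperty.id_mem _ _, h⟩
  | succ N ih =>
    intro X' s hs hX'
    have hN : t.IsLE X' ((N : ℤ) + 1) := by simpa using hX'
    obtain ⟨K, a, c, hT, hK⟩ := (D.trW_iff' s).1 hs
    have hTs := Triangle.shift_distinguished _ hT ((N : ℤ) + 1)
    have : t.IsLE (X⟦((N : ℤ) + 1)⟧) (-1) := by
      have := t.isLE_of_le X 0 (N : ℤ)
      exact t.isLE_shift X (N : ℤ) ((N : ℤ) + 1) (-1)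
    have : t.IsLE (X'⟦((N : ℤ) + 1)⟧) 0 := t.isLE_shift X' ((N : ℤ) + 1) ((N : ℤ) + 1) 0
    have hD := quotient_mem_of_le_zero t D h1 h2 _ _ _ hTs (D.le_shift _ _ hK) ‹_› ‹_›
    let Y := X'⟦((N : ℤ) + 1)⟧
    have hj : D.trW ((t.truncLTι 0).app Y) :=
      ⟨_, _, _, t.triangleLTGE_distinguished 0 Y, hD⟩
    have hshift : D.trW (((t.truncLTι 0).app Y)⟦-((N : ℤ) + 1)⟧') :=
      (MorphismProperty.IsCompatibleWithShift.iff D.trW _ _).2 hj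
    let j₁ : ((t.truncLT 0).obj Y)⟦-((N : ℤ) + 1)⟧ ⟶ X' :=
      ((t.truncLTι 0).app Y)⟦-((N : ℤ) + 1)⟧' ≫ (shiftShiftNeg X' ((N : ℤ) + 1)).hom
    have hj₁ : D.trW j₁ := (MorphismProperty.cancel_right_of_respectsIso D.trW _ _).2 hshift
    have hle : t.IsLE (((t.truncLT 0).obj Y)⟦-((N : ℤ) + 1)⟧) (N : ℤ) := by
      have := t.isLE_truncLT_obj Y 0 (-1)
      exact t.isLE_shift _ (-1) (-((N : ℤ) + 1)) (N : ℤ)
    obtain ⟨X₀, j, hj', hX₀⟩ := ih _ (j₁ ≫ s) (MorphismProperty.comp_mem _ _ _ hj₁ hs) hle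
    exact ⟨X₀, j ≫ j₁, MorphismProperty.comp_mem _ _ _ hj' hj₁, hX₀⟩

variable {E : Type u'} [Category.{v'} E] [Preadditive E] [HasZeroObject E] [HasShift E ℤ]
    [∀ n : ℤ, (shiftFunctor E n).Additive] [Pretriangulated E]
    (q : C ⥤ E) [q.CommShift ℤ] [q.IsTriangulated] [q.IsLocalization D.trW]

/-- image of `≤ n` -/
def qle (n : ℤ) : ObjectProperty E := fun Y => ∃ X : C, t.IsLE X n ∧ Nonempty (q.obj X ≅ Y)

/-- image of `≥ n` -/
def qge (n : ℤ) : ObjectProperty E := fun Y => ∃ X : C, t.IsGE X n ∧ Nonempty (q.obj X ≅ Y)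

lemma q_hom_eq_zero (hb : ∀ X : C, t.bounded X)
    (h1 : ∀ X : C, D X → ∀ n : ℤ, D ((t.truncGELE n n).obj X))
    (h2 : ∀ (X Y Z : C) (f : X ⟶ Y) (g : Y ⟶ Z) (h : Z ⟶ X⟦(1 : ℤ)⟧),
      Triangle.mk f g h ∈ distTriang C → t.heart X → t.heart Y → t.heart Z → D Y → D X ∧ D Z)
    {X Y : C} [t.IsLE X 0] [t.IsGE Y 1] (φ : q.obj X ⟶ q.obj Y) : φ = 0 := by
  obtain ⟨ψ, hψ⟩ := Localization.exists_rightFraction q D.trW φ
  obtain ⟨n, hn⟩ := (hb ψ.X').2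
  obtain ⟨X₀, j, hj, hX₀⟩ := exists_le_zero t D h1 h2 n.toNat ψ.X' ψ.s ψ.hs
    (t.isLE_of_le ψ.X' n _ (Int.self_le_toNat n))
  have hg : j ≫ ψ.f = 0 := t.zero _ 0 1
  have : IsIso (q.map j) := Localization.inverts q D.trW j hj
  have hf : q.map ψ.f = 0 := by
    rw [← cancel_epi (q.map j), comp_zero, ← q.map_comp, hg, q.map_zero]
  have : IsIso (q.map ψ.s) := Localization.inverts q D.trW ψ.s ψ.hs
  rw [← cancel_epi (q.map ψ.s), comp_zero, hψ, MorphismProperty.RightFraction.map_s_comp_map, hf]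

/-- the induced t-structure -/
def tQuot (hb : ∀ X : C, t.bounded X)
    (h1 : ∀ X : C, D X → ∀ n : ℤ, D ((t.truncGELE n n).obj X))
    (h2 : ∀ (X Y Z : C) (f : X ⟶ Y) (g : Y ⟶ Z) (h : Z ⟶ X⟦(1 : ℤ)⟧),
      Triangle.mk f g h ∈ distTriang C → t.heart X → t.heart Y → t.heart Z → D Y → D X ∧ D Z) :
    TStructure E where
  le n := qle t q n
  ge n := qge t q n
  le_isClosedUnderIsomorphisms n := ⟨fun e ⟨X, hX, ⟨e'⟩⟩ => ⟨X, hX, ⟨e' ≪≫ e⟩⟩⟩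
  ge_isClosedUnderIsomorphisms n := ⟨fun e ⟨X, hX, ⟨e'⟩⟩ => ⟨X, hX, ⟨e' ≪≫ e⟩⟩⟩
  le_shift n a n' h Y := fun ⟨X, hX, ⟨e⟩⟩ =>
    ⟨X⟦a⟧, t.isLE_shift X n a n' h, ⟨(q.commShiftIso a).app X ≪≫ (shiftFunctor E a).mapIso e⟩⟩
  ge_shift n a n' h Y := fun ⟨X, hX, ⟨e⟩⟩ =>
    ⟨X⟦a⟧, t.isGE_shift X n a n' h, ⟨(q.commShiftIso a).app X ≪≫ (shiftFunctor E a).mapIso e⟩⟩
  zero' Y Y' f := fun ⟨X, hX, ⟨e⟩⟩ ⟨X', hX', ⟨e'⟩⟩ => by
    rw [← cancel_epi e.hom, ← cancel_mono e'.inv, comp_zero, zero_comp]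
    exact q_hom_eq_zero t D q hb h1 h2 _
  le_zero_le := fun Y ⟨X, hX, he⟩ => ⟨X, t.isLE_of_le X 0 1, he⟩
  ge_one_le := fun Y ⟨X, hX, he⟩ => ⟨X, t.isGE_of_ge X 0 1, he⟩
  exists_triangle_zero_one A := by
    have := Localization.essSurj q D.trW
    let X := q.objPreimage A
    let e := q.objObjPreimageIso A
    obtain ⟨X₁, X₃, h₁, h₃, f, g, h, hT⟩ := t.exists_triangle X 0 1 rfl
    have hq := q.map_distinguished _ hT
    refine ⟨q.obj X₁, q.obj X₃, ⟨X₁, ⟨h₁⟩, ⟨Iso.refl _⟩⟩, ⟨X₃, ⟨h₃⟩, ⟨Iso.refl _⟩⟩,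
      q.map f ≫ e.hom, e.inv ≫ q.map g, q.map h ≫ (q.commShiftIso (1 : ℤ)).hom.app X₁,
      isomorphic_distinguished _ hq _ ?_⟩
    exact Triangle.isoMk _ _ (Iso.refl _) e.symm (Iso.refl _) (by simp) (by simp) (by simp)

omit [IsTriangulated C] in
lemma tstructure_ext {t₁ t₂ : TStructure C} (hle : t₁.le = t₂.le) (hge : t₁.ge = t₂.ge) :
    t₁ = t₂ := by
  cases t₁; cases t₂; subst hle hge; rfl

theorem existsUnique (hb : ∀ X : C, t.bounded X)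
    (h1 : ∀ X : C, D X → ∀ n : ℤ, D ((t.truncGELE n n).obj X))
    (h2 : ∀ (X Y Z : C) (f : X ⟶ Y) (g : Y ⟶ Z) (h : Z ⟶ X⟦(1 : ℤ)⟧),
      Triangle.mk f g h ∈ distTriang C → t.heart X → t.heart Y → t.heart Z → D Y → D X ∧ D Z) :
    ∃ t' : TStructure E,
      (∀ (X : C) (n : ℤ), t.IsLE X n → t'.IsLE (q.obj X) n) ∧
      (∀ (X : C) (n : ℤ), t.IsGE X n → t'.IsGE (q.obj X) n) ∧
      (∀ (Y : E) (n : ℤ), t'.IsLE Y n ↔ ∃ X : C, t.IsLE X n ∧ Nonempty (q.obj X ≅ Y)) ∧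
      (∀ (Y : E) (n : ℤ), t'.IsGE Y n ↔ ∃ X : C, t.IsGE X n ∧ Nonempty (q.obj X ≅ Y)) ∧
      ∀ t'' : TStructure E,
        (∀ (X : C) (n : ℤ), t.IsLE X n → t''.IsLE (q.obj X) n) →
        (∀ (X : C) (n : ℤ), t.IsGE X n → t''.IsGE (q.obj X) n) → t'' = t' := by
  let t' := tQuot t D q hb h1 h2
  have hle' : ∀ (X : C) (n : ℤ), t.IsLE X n → t'.IsLE (q.obj X) n :=
    fun X n hX => ⟨⟨X, hX, ⟨Iso.refl _⟩⟩⟩
  have hge' : ∀ (X : C) (n : ℤ), t.IsGE X n → t'.IsGE (q.obj X) n :=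
    fun X n hX => ⟨⟨X, hX, ⟨Iso.refl _⟩⟩⟩
  refine ⟨t', hle', hge', fun Y n => ⟨fun h => h.le, fun h => ⟨h⟩⟩,
    fun Y n => ⟨fun h => h.ge, fun h => ⟨h⟩⟩, fun t'' hle hge => ?_⟩
  have hl : ∀ (Y : E) (n : ℤ), t'.IsLE Y n → t''.IsLE Y n := fun Y n hY => by
    obtain ⟨X, hX, ⟨e⟩⟩ := hY.le
    have := hle X n hX
    exact t''.isLE_of_iso e n
  have hg : ∀ (Y : E) (n : ℤ), t'.IsGE Y n → t''.IsGE Y n := fun Y n hY => by
    obtain ⟨X, hX, ⟨e⟩⟩ := hY.ge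
    have := hge X n hX
    exact t''.isGE_of_iso e n
  refine tstructure_ext ?_ ?_
  · funext n Y
    refine propext ⟨fun h => ?_, fun h => (hl Y n ⟨h⟩).le⟩
    have : t''.IsLE Y n := ⟨h⟩
    refine TStructure.IsLE.le (t := t') (self := ?_)
    rw [t'.isLE_iff_orthogonal n (n + 1) rfl]
    intro Z f hZ
    have := hg Z (n + 1) hZ
    exact t''.zero f n (n + 1)
  · funext n Y
    refine propext ⟨fun h => ?_, fun h => (hg Y n ⟨h⟩).ge⟩
    have : t''.IsGE Y n := ⟨h⟩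
    refine TStructure.IsGE.ge (t := t') (self := ?_)
    rw [t'.isGE_iff_orthogonal (n - 1) n (by lia)]
    intro Z f hZ
    have := hl Z (n - 1) hZ
    exact t''.zero f (n - 1) n

end Groth.Agent.TQuot
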